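import Groth.Agent.CIProj49.Alg
import Groth.Agent.FanoCI.Conormal
import Groth.Agent.PicAlg.IdealPull
import Groth.Agent.IdealSh.Comap
import Groth.Agent.IdealSh.EffCartier
import Groth.Agent.S18573

/-!
# Global complete intersections in projective space: hypersurface steps

* `sectionKer`: the ideal of a closed intersection of hypersurfaces on the charts.
* `isEffCartier_step`: the next hypersurface cuts an effective Cartier divisor.
* `hypIso`: the ideal sheaf of a hypersurface is `O(-a)`.
-/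

set_option autoImplicit false
set_option linter.style.haveILetI false

universe u

open CategoryTheory CategoryTheory.Limits AlgebraicGeometry TopologicalSpace Opposite

noncomputable section

namespace Groth.Agent.CIProj49

open Groth.Agent.SepTang48 (D isAffineOpen_D)
open Groth.Agent.LefHyp (setOne chartEquiv)
open Groth.Agent.PullStalk.Sky Groth.Agent.PullStalk.Exact Groth.Agent.PullStalk.Basic
open Groth.Agent.Omega Groth.Agent.Omega.Stalks

variable {k : Type u} [Field k] {n : ℕ}

local notation "P" => CohB1.ProjSpace n k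

/-- The chart as a ring isomorphism. -/
def chartRingEquiv (j : Fin (n + 1)) : MvPolynomial (Fin n) k ≃+* Γ(P, D k n j) :=
  (chartEquiv (k := k) j).toRingEquiv

theorem chartRingEquiv_setOne {d : ℕ} (G : LefPen.Form n k d) (j : Fin (n + 1)) :
    chartRingEquiv j (setOne j G.1) = LefPen.dehom G j := by
  refine (LefHyp.aeval_coord_succAbove j G.1).trans ?_
  rw [LefHyp.dehom_eq_eval₂]
  rfl

variable {t : ℕ} {φ : Fin t → ℕ}

theorem ciIdeal_ideal (f : ∀ i : Fin t, LefPen.Form n k (φ i)) (j : Fin (n + 1)) :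
    (LefPen.ciIdeal f).ideal ⟨D k n j, isAffineOpen_D k n j⟩ =
      (Ideal.span (Set.range fun i => setOne j (f i).1)).map (chartRingEquiv j).toRingHom := by
  have := FanoCI.ker_ι_ideal f j ⟨_, isAffineOpen_D k n j⟩ le_rfl
  rw [Scheme.IdealSheafData.ker_subschemeι] at this
  rw [this, Ideal.map_span, ← Set.range_comp]
  congr 1
  refine congrArg Set.range (funext fun i => ?_)
  exact (QCoh.rres_self _ _).trans (chartRingEquiv_setOne (f i) j).symm

theorem dim_chart_le (f : ∀ i : Fin t, LefPen.Form n k (φ i)) (j : Fin (n + 1)) :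
    ringKrullDim (MvPolynomial (Fin n) k ⧸ Ideal.span (Set.range fun i => setOne j (f i).1)) ≤
      topologicalKrullDim (LefPen.ciIdeal f).subscheme := by
  let I := LefPen.ciIdeal f
  let U : (CohB1.ProjSpace n k).affineOpens := ⟨D k n j, isAffineOpen_D k n j⟩
  let V := I.subschemeι ⁻¹ᵁ U.1
  have hV : IsAffineOpen V := U.2.preimage I.subschemeι
  let e₁ := Ideal.quotientEquiv _ (I.ideal U) (chartRingEquiv j) (ciIdeal_ideal f j)
  let e₂ : (Γ(P, U.1) ⧸ I.ideal U) ≃+* Γ(I.subscheme, V) := (I.subschemeObjIso U).commRingCatIsoToRingEquiv.symm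
  rw [ringKrullDim_eq_of_ringEquiv (e₁.trans e₂), ← PrimeSpectrum.topologicalKrullDim_eq_ringKrullDim]
  exact Topology.IsInducing.topologicalKrullDim_le hV.fromSpec.isOpenEmbedding.isInducing

variable {r : ℕ} {a : Fin r → ℕ} (G : ∀ i : Fin r, LefPen.Form n k (a i))

/-- The forms before the `m`-th. -/
abbrev pre (m : ℕ) (hm : m ≤ r) : ∀ l : Fin m, LefPen.Form n k (a (l.castLE hm)) := fun l => G (l.castLE hm)

variable (hr : r ≤ n) (ha : ∀ i, 1 ≤ a i)
  (hdim : topologicalKrullDim (LefPen.ciIdeal G).subscheme = ((n - r : ℕ) : WithBot ℕ∞))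

include hr ha hdim in
theorem nzd_chart {m : ℕ} (hm : m < r) (j : Fin (n + 1)) (c : Γ(P, D k n j))
    (h : LefPen.dehom (G ⟨m, hm⟩) j * c ∈ (LefPen.ciIdeal (pre G m hm.le)).ideal ⟨_, isAffineOpen_D k n j⟩) :
    c ∈ (LefPen.ciIdeal (pre G m hm.le)).ideal ⟨_, isAffineOpen_D k n j⟩ := by
  obtain ⟨c, rfl⟩ := (chartRingEquiv j).surjective c
  rw [ciIdeal_ideal] at h ⊢
  rw [← chartRingEquiv_setOne, ← map_mul] at h
  refine Ideal.mem_map_of_mem _ (chart_mem_of_mul_mem hr (fun i => (G i).1)
    (fun i => (MvPolynomial.mem_homogeneousSubmodule _ _).1 (G i).2) ha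
    (fun j => (dim_chart_le G j).trans hdim.le) hm j ?_)
  obtain ⟨x, hx, he⟩ := (Ideal.mem_map_iff_of_surjective _ (chartRingEquiv j).surjective).1 h
  exact (chartRingEquiv j).injective he ▸ hx

include hr ha hdim in
theorem form_ne_zero {m : ℕ} (hm : m < r) : (G ⟨m, hm⟩).1 ≠ 0 := by
  intro h0
  have h1 := mem_of_mul_mem hr (fun i => (G i).1)
    (fun i => (MvPolynomial.mem_homogeneousSubmodule _ _).1 (G i).2) ha
    (fun j => (dim_chart_le G j).trans hdim.le) hm (z := 1) (by rw [h0, zero_mul]; exact Ideal.zero_mem _)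
  have hle := CIntNormal.le_vertex (fun l : Fin m => (G (l.castLE hm.le)).1) (fun l => a (l.castLE hm.le))
    (fun l => (MvPolynomial.mem_homogeneousSubmodule _ _).1 (G _).2) (fun l => ha _)
  have := hle h1
  rw [RingHom.mem_ker, map_one] at this
  exact one_ne_zero this

include hr ha hdim in
/-- The next hypersurface is an effective Cartier divisor on the intersection of the previous ones. -/
theorem isEffCartier_step {Y : Scheme.{u}} (ι : Y ⟶ P) [IsClosedImmersion ι] {m : ℕ} (hm : m < r)
    (hι : ι.ker = LefPen.ciIdeal (pre G m hm.le)) :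
    BlowUp.IsEffCartierIdeal ((LefPen.hypIdeal (G ⟨m, hm⟩)).comap ι) := by
  intro y
  obtain ⟨j, hj⟩ := Opens.mem_iSup.1 ((ProjTwist.iSup_stdOpen n k).ge (Opens.mem_top (ι y)))
  let U : (CohB1.ProjSpace n k).affineOpens := ⟨D k n j, isAffineOpen_D k n j⟩
  let V : Y.affineOpens := ⟨ι ⁻¹ᵁ U.1, U.2.preimage ι⟩
  refine ⟨V, hj, (ι.app U.1).hom (LefPen.dehom (G ⟨m, hm⟩) j), ?_, ?_⟩
  · rw [mem_nonZeroDivisors_iff_right]
    intro x hx
    obtain ⟨c, rfl⟩ := ι.app_surjective U.1 U.2 x
    have hc := nzd_chart G hr ha hdim hm j c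
      (by
        rw [← hι, Scheme.Hom.ker_apply, RingHom.mem_ker, map_mul, mul_comm]
        exact hx)
    rwa [← hι, Scheme.Hom.ker_apply, RingHom.mem_ker] at hc
  · refine (IdealSh.Comap.ideal_comap_span_singleton _ ι U V le_rfl
      (a := LefPen.dehom (G ⟨m, hm⟩) j) ?_).trans ?_
    · exact (LefHyp.hypIdeal_ideal_of_le (G ⟨m, hm⟩) j U le_rfl).trans (congrArg (fun z => Ideal.span {z}) (QCoh.rres_self _ _))
    · rw [Scheme.Hom.appLE_eq_app]

theorem isEffCartier_hyp {d : ℕ} (F : LefPen.Form n k d) (hF : F.1 ≠ 0) :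
    BlowUp.IsEffCartierIdeal (LefPen.hypIdeal F) := by
  intro y
  obtain ⟨j, hj⟩ := Opens.mem_iSup.1 ((ProjTwist.iSup_stdOpen n k).ge (Opens.mem_top y))
  let U : (CohB1.ProjSpace n k).affineOpens := ⟨D k n j, isAffineOpen_D k n j⟩
  refine ⟨U, hj, LefPen.dehom F j, ?_, ?_⟩
  · rw [mem_nonZeroDivisors_iff_right]
    intro x hx
    obtain ⟨c, rfl⟩ := (chartRingEquiv j).surjective x
    have h0 : c * setOne j F.1 = 0 :=
      (chartRingEquiv j).injective (by rw [map_mul, map_zero, chartRingEquiv_setOne]; exact hx)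
    have hne : setOne j F.1 ≠ 0 := fun h => hF (eq_zero_of_setOne j ((MvPolynomial.mem_homogeneousSubmodule _ _).1 F.2) h)
    rw [(mul_eq_zero.1 h0).resolve_right hne, map_zero]
  · rw [LefHyp.hypIdeal_ideal_of_le F j U le_rfl]
    exact congrArg (fun z => Ideal.span {z}) (QCoh.rres_self _ _)

/-- `O(-d)` is the ideal sheaf of a hypersurface. -/
theorem nonempty_hypIso {d : ℕ} (F : LefPen.Form n k d) (hF : F.1 ≠ 0) :
    Nonempty (ClSub.idealMod (LefPen.hypIdeal F) ≅ Twist.twistProjSpace n k (-(d : ℤ))) := by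
  let f : ∀ _ : Fin 1, LefPen.Form n k d := fun _ => F
  have hI : Scheme.Hom.ker (LefPen.ciIdeal f).subschemeι = LefPen.hypIdeal F := by
    refine (Scheme.IdealSheafData.ker_subschemeι _).trans ?_
    exact le_antisymm (iSup_le fun i => le_of_eq rfl) (le_iSup (fun i => LefPen.hypIdeal (f i)) (0 : Fin 1))
  have : IsIso (FanoCI.hom f 0) := by
    haveI : IrreducibleSpace P := S18573.irreducibleSpace_projSpace n k
    haveI : IsReduced P := by
      haveI : ∀ y : CohB1.ProjSpace n k, _root_.IsReduced ((CohB1.ProjSpace n k).presheaf.stalk y) := fun y =>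
        haveI := DualAbs.isRegularLocalRing_stalk (k := k) (N := n) y
        haveI := RegLoc.isDomain ((CohB1.ProjSpace n k).presheaf.stalk y)
        inferInstance
      exact isReduced_of_isReduced_stalk _
    haveI : IsIntegral P := isIntegral_of_irreducibleSpace_of_isReduced _
    refine isIso_of_stalk fun x => ?_
    obtain ⟨j, hj⟩ := Opens.mem_iSup.1 ((ProjTwist.iSup_stdOpen n k).ge (Opens.mem_top x))
    let w₀ := germM (FanoCI.tw (n := n) (k := k) d) _ x hj (FanoCI.den j d)
    have himg : idealStalk _ x (stalkLin (FanoCI.hom f 0) x w₀) =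
        (CohB1.ProjSpace n k).presheaf.germ (D k n j) x hj (LefPen.dehom F j) := by
      rw [stalkLin_germ, FanoCI.hom_den, idealStalk_germ, FanoCI.idealSect_sig]
    refine ⟨(injective_iff_map_eq_zero _).2 fun w hw => ?_, fun v => ?_⟩
    · obtain ⟨c, rfl⟩ := FanoCI.stalk_tw d j hj w
      have h1 := congrArg (idealStalk _ x) hw
      rw [map_zero, map_smul, map_smul, himg, smul_eq_mul] at h1
      have hne : (CohB1.ProjSpace n k).presheaf.germ (D k n j) x hj (LefPen.dehom F j) ≠ 0 := by
        intro h0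
        refine hF (eq_zero_of_setOne j ((MvPolynomial.mem_homogeneousSubmodule _ _).1 F.2) ?_)
        refine (chartRingEquiv j).injective ((chartRingEquiv_setOne F j).trans ?_)
        rw [map_zero]
        exact germ_injective_of_isIntegral (CohB1.ProjSpace n k) x hj (h0.trans (map_zero _).symm)
      rw [(mul_eq_zero.1 h1).resolve_right hne, zero_smul]
    · have h := FanoCI.idealStalk_mem_span f j x hj v
      replace h := Ideal.span_mono (t := {(CohB1.ProjSpace n k).presheaf.germ (D k n j) x hj (LefPen.dehom F j)}) (Set.range_subset_iff.2 fun _ => rfl) h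
      rw [Ideal.mem_span_singleton'] at h
      obtain ⟨c, hc⟩ := h
      refine ⟨c • w₀, idealStalk_injective _ _ ?_⟩
      rw [map_smul, map_smul, himg]
      exact hc
  have he : (-((d • 1 : ℕ) : ℤ)) = -(d : ℤ) := by simp
  exact ⟨(eqToIso (congrArg ClSub.idealMod hI)).symm ≪≫ (asIso (FanoCI.hom f 0)).symm ≪≫
    eqToIso (congrArg (Twist.twist (CohB1.polyGrading n k)) he)⟩

end Groth.Agent.CIProj49

end
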