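import Groth.Agent.LefHyp.Space
import Groth.Agent.CIntNormal.Basic
import Groth.Agent.VarDim.Algebra
import Groth.Agent.S5758
import Groth.Agent.S10903

/-!
# Global complete intersections: the forms are a regular sequence

If the dehomogenisations of `r` forms of positive degree cut out at most `n - r` dimensions in every
chart of `P^n`, each form is a nonzerodivisor modulo the previous ones, also after dehomogenisation.
-/

set_option autoImplicit false
set_option linter.style.haveILetI false

universe u

open MvPolynomial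

noncomputable section

namespace Groth.Agent.CIProj49

open Groth.Agent.LefHyp (setOne)

variable {k : Type u} [Field k] {n : ℕ}

local notation "S" => MvPolynomial (Fin (n + 1)) k

theorem setOne_X_self (j : Fin (n + 1)) : setOne (k := k) j (X j) = 1 := by simp [setOne]

theorem setOne_rename (j : Fin (n + 1)) (p : MvPolynomial (Fin n) k) :
    setOne (k := k) j (rename j.succAbove p) = p := by
  rw [setOne, aeval_rename]
  refine (congrArg (fun v => aeval v p) ?_).trans (AlgHom.congr_fun (aeval_X_left) p)
  funext i; simp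

/-- Homogenisation. -/
theorem exists_lift (j : Fin (n + 1)) (a : MvPolynomial (Fin n) k) {N : ℕ} (hN : a.totalDegree ≤ N) :
    ∃ C : S, C.IsHomogeneous N ∧ setOne j C = a := by
  refine ⟨∑ e ∈ Finset.range (a.totalDegree + 1), X j ^ (N - e) * rename j.succAbove (homogeneousComponent e a),
    IsHomogeneous.sum _ _ _ fun e he => ?_, ?_⟩
  · have := (isHomogeneous_X_pow (R := k) j (N - e)).mul
      ((homogeneousComponent_isHomogeneous e a).rename_isHomogeneous (f := j.succAbove))
    rwa [Nat.sub_add_cancel (by rw [Finset.mem_range] at he; omega)] at this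
  · rw [map_sum]
    conv_rhs => rw [← a.sum_homogeneousComponent]
    refine Finset.sum_congr rfl fun e _ => ?_
    rw [map_mul, map_pow, setOne_X_self, one_pow, one_mul, setOne_rename]

/-- `X_i ↦ setOne (X_i) T`. -/
def homMap (j : Fin (n + 1)) : S →ₐ[k] Polynomial (MvPolynomial (Fin n) k) :=
  aeval fun i => Polynomial.C (setOne j (X i)) * Polynomial.X

theorem homMap_of_homogeneous (j : Fin (n + 1)) {p : S} {e : ℕ} (hp : p.IsHomogeneous e) :
    homMap j p = Polynomial.C (setOne j p) * Polynomial.X ^ e := by
  rw [homMap, show (fun i => Polynomial.C (setOne (k := k) j (X i)) * Polynomial.X) =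
    fun i => Polynomial.X * Polynomial.C (setOne (k := k) j (X i)) from funext fun i => mul_comm _ _,
    BertiniPn.aeval_scale hp, mul_comm]
  congr 1
  refine Eq.trans ?_ (AlgHom.congr_fun
    (MvPolynomial.aeval_unique ((Polynomial.CAlgHom (R := k)).comp (setOne (k := k) j))) p).symm
  rfl

theorem coeff_homMap (j : Fin (n + 1)) (p : S) (e : ℕ) :
    (homMap j p).coeff e = setOne j (homogeneousComponent e p) := by
  classical
  conv_lhs => rw [← p.sum_homogeneousComponent, map_sum, Polynomial.finsetSum_coeff]
  simp only [homMap_of_homogeneous j (homogeneousComponent_isHomogeneous _ p), Polynomial.coeff_C_mul_X_pow]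
  rw [Finset.sum_ite_eq]
  split_ifs with h
  · rfl
  · rw [homogeneousComponent_eq_zero _ _ (by rw [Finset.mem_range] at h; omega), map_zero]

/-- The coordinates `X_i / X_j` in the localisation. -/
def coordMap (j : Fin (n + 1)) : MvPolynomial (Fin n) k →ₐ[k] Localization.Away (X j : S) :=
  aeval fun i => IsLocalization.Away.invSelf (X j : S) * algebraMap S _ (X (j.succAbove i))

theorem coordMap_setOne (j : Fin (n + 1)) {p : S} {e : ℕ} (hp : p.IsHomogeneous e) :
    coordMap j (setOne j p) =
      IsLocalization.Away.invSelf (X j : S) ^ e * algebraMap S (Localization.Away (X j : S)) p := by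
  have h : (coordMap j).comp (setOne (k := k) j) =
      aeval fun i => IsLocalization.Away.invSelf (X j : S) * algebraMap S (Localization.Away (X j : S)) (X i) := by
    refine algHom_ext fun i => ?_
    induction i using Fin.succAboveCases j with
    | x =>
      rw [AlgHom.comp_apply, setOne_X_self, map_one, aeval_X, mul_comm]
      exact (IsLocalization.Away.mul_invSelf  (X j : S)).symm
    | p i => simp [coordMap, setOne]
  rw [← AlgHom.comp_apply, h, BertiniPn.aeval_scale hp]
  congr 1
  exact (AlgHom.congr_fun (MvPolynomial.aeval_unique (IsScalarTower.toAlgHom k S (Localization.Away (X j : S)))) p).symm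

theorem eq_zero_of_setOne (j : Fin (n + 1)) {p : S} {e : ℕ} (hp : p.IsHomogeneous e)
    (h : setOne j p = 0) : p = 0 := by
  have h1 := coordMap_setOne j hp
  rw [h, map_zero] at h1
  have hu : IsUnit (IsLocalization.Away.invSelf (X j : S) : Localization.Away (X j : S)) :=
    IsUnit.of_mul_eq_one_right _ (IsLocalization.Away.mul_invSelf (X j : S))
  have h2 := ((hu.pow e).mul_right_eq_zero).1 h1.symm
  refine IsLocalization.injective (Localization.Away (X j : S))
    (powers_le_nonZeroDivisors_of_noZeroDivisors (X_ne_zero j)) ?_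
  rw [h2, map_zero]

/-- A prime of `k[X]` missing `X j` is at least as high as the prime it induces on the chart. -/
theorem height_chart_le (j : Fin (n + 1)) (P : Ideal S) [P.IsPrime] (hj : X j ∉ P) :
    ∃ q : Ideal (MvPolynomial (Fin n) k), q.IsPrime ∧ q.height ≤ P.height ∧
      ∀ (p : S) (e : ℕ), p.IsHomogeneous e → p ∈ P → setOne j p ∈ q := by
  let L := Localization.Away (X j : S)
  have hdisj : Disjoint (Submonoid.powers (X j : S) : Set S) (P : Set S) :=
    Set.disjoint_left.2 (by rintro _ ⟨m, rfl⟩ hm; exact hj (Ideal.IsPrime.mem_of_pow_mem ‹_› m hm))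
  haveI hPL : (P.map (algebraMap S L)).IsPrime :=
    IsLocalization.isPrime_of_isPrime_disjoint (Submonoid.powers (X j : S)) L P ‹_› hdisj
  let q := (P.map (algebraMap S L)).comap (coordMap j)
  have hq : q.IsPrime := Ideal.comap_isPrime _ _
  have hback : ∀ (p : S) (e : ℕ), p.IsHomogeneous e → setOne j p ∈ q → p ∈ P := by
    intro p e hp hpq
    rw [Ideal.mem_comap, coordMap_setOne j hp] at hpq
    have h := Ideal.mul_mem_left (P.map (algebraMap S L)) (algebraMap S L (X j : S) ^ e) hpq
    rw [← mul_assoc, ← mul_pow, IsLocalization.Away.mul_invSelf, one_pow, one_mul] at h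
    rw [← IsLocalization.under_map_of_isPrime_disjoint (Submonoid.powers (X j : S)) L ‹P.IsPrime› hdisj]
    exact h
  refine ⟨q, hq, ?_, fun p e hp hpP => ?_⟩
  · let Q : PrimeSpectrum (MvPolynomial (Fin n) k) → PrimeSpectrum S := fun a =>
      ⟨(a.asIdeal.map Polynomial.C).comap (homMap j).toRingHom,
        haveI : (a.asIdeal.map Polynomial.C).IsPrime := Ideal.isPrime_map_C_of_isPrime
        Ideal.comap_isPrime _ _⟩
    have hmem : ∀ (a : PrimeSpectrum (MvPolynomial (Fin n) k)) (p : S),
        p ∈ (Q a).asIdeal ↔ ∀ e, setOne j (homogeneousComponent e p) ∈ a.asIdeal := fun a p => by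
      change homMap j p ∈ a.asIdeal.map Polynomial.C ↔ _
      rw [Ideal.mem_map_C_iff]
      simp only [coeff_homMap]
    have hmono : StrictMono Q := by
      intro a b hab
      refine lt_of_le_of_ne (fun p hp => (hmem b p).2 fun e => hab.le ((hmem a p).1 hp e)) fun he => ?_
      obtain ⟨x, hxb, hxa⟩ := SetLike.exists_of_lt (show a.asIdeal < b.asIdeal from hab)
      obtain ⟨C, hC, hCx⟩ := exists_lift j x (le_refl x.totalDegree)
      have hCb : C ∈ (Q b).asIdeal := (hmem b C).2 fun e => by
        rw [homogeneousComponent_of_mem hC]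
        split_ifs
        · rw [hCx]; exact hxb
        · simp
      rw [← he] at hCb
      have := (hmem a C).1 hCb x.totalDegree
      rw [homogeneousComponent_of_mem hC, if_pos rfl, hCx] at this
      exact hxa this
    have hle : Q ⟨q, hq⟩ ≤ ⟨P, ‹_›⟩ := fun p hp => by
      rw [← p.sum_homogeneousComponent]
      exact Ideal.sum_mem _ fun e _ => hback _ e (homogeneousComponent_isHomogeneous e p) ((hmem ⟨q, hq⟩ p).1 hp e)
    rw [(⟨q, hq⟩ : PrimeSpectrum _).height_eq_orderHeight, (⟨P, ‹_›⟩ : PrimeSpectrum S).height_eq_orderHeight]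
    exact (Order.height_le_height_apply_of_strictMono Q hmono _).trans (Order.height_mono hle)
  · rw [Ideal.mem_comap, coordMap_setOne j hp]
    exact Ideal.mul_mem_left _ _ (Ideal.mem_map_of_mem _ hpP)

theorem ringKrullDim_quotient_le {A : Type u} [CommRing A] {I : Ideal A} {r m d : ℕ}
    (hI : ∀ p : Ideal A, p.IsPrime → I ≤ p → (r : ℕ∞) ≤ p.height) (hd : ringKrullDim A ≤ d)
    (hm : d ≤ m + r) : ringKrullDim (A ⧸ I) ≤ m := by
  rw [ringKrullDim_quotient]
  refine iSup_le fun l => ?_
  have hr : (r : ℕ∞) ≤ Order.height l.head.1 := by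
    rw [← PrimeSpectrum.height_eq_orderHeight]; exact hI _ l.head.1.2 l.head.2
  obtain ⟨p, hp, hpl⟩ := Order.exists_series_of_le_height _ hr
  have h := (Order.LTSeries.length_le_krullDim (p.smash (l.map Subtype.val fun _ _ h => h) (by simpa using hp))).trans hd
  have h' : ((r + l.length : ℕ) : WithBot ℕ∞) ≤ d := by simpa [RelSeries.smash_length, hpl] using h
  have h'' : r + l.length ≤ d := by exact_mod_cast h'
  exact_mod_cast (by omega : l.length ≤ m)

theorem natCast_le_of_add_eq {D : WithBot ℕ∞} {r : ℕ} {H : ℕ∞} (h : D + r = H) : (r : ℕ∞) ≤ H := by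
  cases D with
  | bot => simp at h
  | coe d =>
    have h' : d + r = H := WithBot.coe_injective (by rw [WithBot.coe_add]; exact h)
    exact h' ▸ le_add_self

theorem le_height_chart {r : ℕ} (hr : r ≤ n) (g : Fin r → MvPolynomial (Fin n) k)
    (hdim : ringKrullDim (MvPolynomial (Fin n) k ⧸ Ideal.span (Set.range g)) ≤ (n - r : ℕ))
    (q : Ideal (MvPolynomial (Fin n) k)) [q.IsPrime] (hq : ∀ i, g i ∈ q) : (r : ℕ∞) ≤ q.height := by
  classical
  obtain ⟨m, hm, hqm⟩ := q.exists_le_maximal (Ideal.IsPrime.ne_top ‹_›)
  let R := MvPolynomial (Fin n) k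
  let L := Localization.AtPrime m
  haveI : IsRegularLocalRing L := isRegularRing_iff.mp inferInstance m
  have hCM := Depth.isCohenMacaulayModule_self (R := L)
    (h := Depth.isCohenMacaulayLocalRing_of_isRegularLocalRing)
  have hdL : ringKrullDim L = (n : ℕ) := by
    rw [IsLocalization.AtPrime.ringKrullDim_eq_height m L, VarDim.height_eq_of_isMaximal_mvPolynomial k n m hm]
    rfl
  let xs : List L := List.ofFn fun i => algebraMap R L (g i)
  have hofList : Ideal.ofList xs = (Ideal.span (Set.range g)).map (algebraMap R L) := by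
    rw [Ideal.map_span, Ideal.ofList]
    congr 1
    ext z
    simp [xs, List.mem_ofFn]
  have hxs : ∀ x ∈ xs, x ∈ IsLocalRing.maximalIdeal L := by
    intro x hx
    obtain ⟨i, rfl⟩ := List.mem_ofFn.mp hx
    rw [← Localization.AtPrime.map_eq_maximalIdeal]
    exact Ideal.mem_map_of_mem _ (hqm (hq i))
  let JL := (Ideal.span (Set.range g)).map (algebraMap R L)
  have hJm : JL ≤ IsLocalRing.maximalIdeal L := by
    change (Ideal.span (Set.range g)).map (algebraMap R L) ≤ _
    rw [← hofList]; exact Ideal.span_le.2 hxs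
  have hsmall : ringKrullDim (L ⧸ JL) ≤ (n - r : ℕ) := by
    refine le_trans ?_ hdim
    refine Order.krullDim_le_of_strictMono (PrimeSpectrum.comap (Ideal.quotientMap JL (algebraMap R L) Ideal.le_comap_map)) ?_
    intro a b hab
    refine lt_of_le_of_ne (Ideal.comap_mono hab.le) fun he => hab.ne ?_
    have he' := congrArg
      (fun x : PrimeSpectrum (R ⧸ Ideal.span (Set.range g)) => x.asIdeal.comap (Ideal.Quotient.mk (Ideal.span (Set.range g)))) he
    simp only [PrimeSpectrum.comap_asIdeal, Ideal.comap_comap, Ideal.quotientMap_comp_mk] at he'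
    rw [← Ideal.comap_comap, ← Ideal.comap_comap] at he'
    refine PrimeSpectrum.ext (Ideal.comap_injective_of_surjective _ Ideal.Quotient.mk_surjective ?_)
    have := congrArg (Ideal.map (algebraMap R L)) he'
    rwa [IsLocalization.map_comap m.primeCompl, IsLocalization.map_comap m.primeCompl] at this
  have hn : (Submodule.spanFinrank JL : WithBot ℕ∞) ≤ r := by
    have : Submodule.spanFinrank JL ≤ r := by
      change Submodule.spanFinrank ((Ideal.span (Set.range g)).map (algebraMap R L)) ≤ r
      rw [Ideal.map_span]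
      refine (Submodule.spanFinrank_span_le_ncard_of_finite ((Set.finite_range g).image _)).trans ?_
      refine (Set.ncard_image_le (Set.finite_range g)).trans ?_
      rw [← Set.image_univ]
      exact (Set.ncard_image_le Set.finite_univ).trans (by rw [Set.ncard_univ, Nat.card_fin])
    exact_mod_cast this
  have hbig : ringKrullDim L ≤ ringKrullDim (L ⧸ JL) + r :=
    (ringKrullDim_le_ringKrullDim_quotient_add_spanFinrank JL
      (hJm.trans (IsLocalRing.ringJacobson_eq_maximalIdeal L).ge)).trans (add_le_add le_rfl hn)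
  have hw : RingTheory.Sequence.IsWeaklyRegular L xs := by
    refine ((Groth.Agent.S5758.result L L hCM xs hxs).1).mpr ?_
    rw [smul_eq_mul, Ideal.mul_top, hofList, Module.supportDim_quotient_eq_ringKrullDim,
      Module.supportDim_self_eq_ringKrullDim, List.length_ofFn]
    refine le_antisymm ?_ hbig
    rw [hdL]
    refine (add_le_add hsmall le_rfl).trans ?_
    exact_mod_cast (by omega : n - r + r ≤ n)
  -- localise further at `q`
  haveI hqL : (q.map (algebraMap R L)).IsPrime :=
    IsLocalization.isPrime_of_isPrime_disjoint m.primeCompl L q ‹_›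
      (Set.disjoint_left.2 fun a ha haq => ha (hqm haq))
  have hht : (q.map (algebraMap R L)).height = q.height := by
    rw [← IsLocalization.height_comap m.primeCompl (q.map (algebraMap R L)),
      IsLocalization.under_map_of_isPrime_disjoint m.primeCompl L ‹q.IsPrime›
        (Set.disjoint_left.2 fun a ha haq => ha (hqm haq))]
  rw [← hht]
  let K' := Localization.AtPrime (q.map (algebraMap R L))
  haveI : LocCoh.IsCohenMacaulayLocalRing L := Depth.isCohenMacaulayLocalRing_of_isRegularLocalRing
  let ys : List K' := xs.map (algebraMap L K')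
  have hwy : RingTheory.Sequence.IsWeaklyRegular K' ys :=
    hw.of_isLocalization K' (q.map (algebraMap R L)).primeCompl
  have hys : ∀ y ∈ ys, y ∈ IsLocalRing.maximalIdeal K' := by
    intro y hy
    obtain ⟨x, hx, rfl⟩ := List.mem_map.mp hy
    obtain ⟨i, rfl⟩ := List.mem_ofFn.mp hx
    rw [← Localization.AtPrime.map_eq_maximalIdeal]
    exact Ideal.mem_map_of_mem _ (Ideal.mem_map_of_mem _ (hq i))
  have hCM' := Depth.isCohenMacaulayModule_self (R := K')
    (h := Depth.isCohenMacaulayLocalRing_localization (R := L) (q.map (algebraMap R L)))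
  have h := ((Groth.Agent.S5758.result K' K' hCM' ys hys).1).mp hwy
  rw [smul_eq_mul, Ideal.mul_top, Module.supportDim_quotient_eq_ringKrullDim,
    Module.supportDim_self_eq_ringKrullDim, List.length_map, List.length_ofFn,
    IsLocalization.AtPrime.ringKrullDim_eq_height (q.map (algebraMap R L)) K'] at h
  exact natCast_le_of_add_eq h

variable {r : ℕ} {a : Fin r → ℕ} (hr : r ≤ n) (G : Fin r → MvPolynomial (Fin (n + 1)) k) (hG : ∀ i, (G i).IsHomogeneous (a i))
  (ha : ∀ i, 1 ≤ a i)
  (hdim : ∀ j : Fin (n + 1),
    ringKrullDim (MvPolynomial (Fin n) k ⧸ Ideal.span (Set.range fun i => setOne j (G i))) ≤ (n - r : ℕ))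

include hr hG hdim in
theorem le_height (P : Ideal S) [P.IsPrime] (hP : ∀ i, G i ∈ P) : (r : ℕ∞) ≤ P.height := by
  by_cases h : ∀ i, X i ∈ P
  · rw [CIntNormal.eq_vertex h]
    exact le_trans (by exact_mod_cast (by omega : r ≤ n + 1)) (S10903.le_height_ker_constantCoeff k (n + 1))
  · push Not at h
    obtain ⟨j, hj⟩ := h
    obtain ⟨q, hq, hle, hmem⟩ := height_chart_le j P hj
    haveI := hq
    exact (le_height_chart hr _ (hdim j) q fun i => hmem _ _ (hG i) (hP i)).trans hle

/-- The span of the forms before the `m`-th. -/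
abbrev prefixSpan (m : ℕ) (hm : m ≤ r) : Ideal S :=
  Ideal.span (Set.range fun l : Fin m => G (l.castLE hm))

include hr hG ha hdim in
theorem mem_of_mul_mem {m : ℕ} (hm : m < r) {z : S} (h : G ⟨m, hm⟩ * z ∈ prefixSpan G m hm.le) :
    z ∈ prefixSpan G m hm.le := by
  classical
  let M := CIntNormal.vertex k n
  haveI hM : M.IsPrime := RingHom.ker_isPrime _
  let L := Localization.AtPrime M
  haveI : IsRegularLocalRing L := isRegularRing_iff.mp inferInstance M
  have hCM := Depth.isCohenMacaulayModule_self (R := L)
    (h := Depth.isCohenMacaulayLocalRing_of_isRegularLocalRing)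
  let φ := algebraMap S L
  let xs : List L := List.ofFn fun i => φ (G i)
  have hGM : ∀ i, G i ∈ M := fun i =>
    CIntNormal.le_vertex G a hG (fun l => by have := ha l; omega) (Ideal.subset_span ⟨i, rfl⟩)
  have hofList : Ideal.ofList xs = (Ideal.span (Set.range G)).map φ := by
    rw [Ideal.map_span, Ideal.ofList]
    congr 1
    ext w
    simp [xs, List.mem_ofFn]
  have hxs : ∀ x ∈ xs, x ∈ IsLocalRing.maximalIdeal L := by
    intro x hx
    obtain ⟨i, rfl⟩ := List.mem_ofFn.mp hx
    rw [← Localization.AtPrime.map_eq_maximalIdeal]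
    exact Ideal.mem_map_of_mem _ (hGM i)
  have hdL : ringKrullDim L = (n + 1 : ℕ) := by
    rw [IsLocalization.AtPrime.ringKrullDim_eq_height M L,
      VarDim.height_eq_of_isMaximal_mvPolynomial k (n + 1) M (inferInstance : (CIntNormal.vertex k n).IsMaximal)]
    rfl
  have hJm : Ideal.ofList xs ≤ IsLocalRing.maximalIdeal L := Ideal.span_le.2 hxs
  have hsmall : ringKrullDim (L ⧸ Ideal.ofList xs) ≤ (n + 1 - r : ℕ) := by
    refine ringKrullDim_quotient_le (r := r) (fun p hp hle => ?_) hdL.le (by omega)
    haveI := hp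
    rw [← IsLocalization.height_comap M.primeCompl p]
    exact le_height hr G hG hdim _ fun i => hle (hofList ▸ Ideal.mem_map_of_mem _ (Ideal.subset_span ⟨i, rfl⟩))
  have hn : (Submodule.spanFinrank (Ideal.ofList xs) : WithBot ℕ∞) ≤ r := by
    have : Submodule.spanFinrank (Ideal.ofList xs) ≤ r := by
      rw [hofList, Ideal.map_span]
      refine (Submodule.spanFinrank_span_le_ncard_of_finite ((Set.finite_range G).image _)).trans ?_
      refine (Set.ncard_image_le (Set.finite_range G)).trans ?_
      rw [← Set.image_univ]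
      exact (Set.ncard_image_le Set.finite_univ).trans (by rw [Set.ncard_univ, Nat.card_fin])
    exact_mod_cast this
  have hbig : ringKrullDim L ≤ ringKrullDim (L ⧸ Ideal.ofList xs) + r :=
    (ringKrullDim_le_ringKrullDim_quotient_add_spanFinrank _
      (hJm.trans (IsLocalRing.ringJacobson_eq_maximalIdeal L).ge)).trans (add_le_add le_rfl hn)
  have hw : RingTheory.Sequence.IsWeaklyRegular L xs := by
    refine ((Groth.Agent.S5758.result L L hCM xs hxs).1).mpr ?_
    rw [smul_eq_mul, Ideal.mul_top, Module.supportDim_quotient_eq_ringKrullDim,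
      Module.supportDim_self_eq_ringKrullDim, List.length_ofFn]
    refine le_antisymm ?_ hbig
    rw [hdL]
    refine (add_le_add hsmall le_rfl).trans ?_
    exact_mod_cast (by omega : n + 1 - r + r ≤ n + 1)
  have hlen : m < xs.length := by simpa [xs] using hm
  have hreg := hw.regular_mod_prev m hlen
  have htake : Ideal.ofList (xs.take m) = (prefixSpan G m hm.le).map φ := by
    rw [Ideal.map_span, Ideal.ofList]
    congr 1
    ext w
    simp only [List.mem_take_iff_getElem, xs, List.getElem_ofFn, Set.mem_ofPred_eq, ← Set.range_comp, Set.mem_range,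
      Function.comp, List.length_ofFn]
    exact ⟨fun ⟨i, hi, e⟩ => ⟨⟨i, by omega⟩, e⟩, fun ⟨l, e⟩ => ⟨l, by have := l.2; omega, e⟩⟩
  have hz : φ z ∈ Ideal.ofList (xs.take m) := by
    have h0 : xs[m] • (Submodule.Quotient.mk (φ z) : L ⧸ (Ideal.ofList (xs.take m) • ⊤ : Submodule L L)) =
        xs[m] • 0 := by
      rw [smul_zero, ← Submodule.Quotient.mk_smul, Submodule.Quotient.mk_eq_zero, smul_eq_mul, Ideal.mul_top, htake,
        show xs[m] = φ (G ⟨m, hm⟩) by simp [xs], smul_eq_mul, ← map_mul]
      exact Ideal.mem_map_of_mem _ h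
    have := (Submodule.Quotient.mk_eq_zero _).mp (hreg h0)
    rwa [smul_eq_mul, Ideal.mul_top] at this
  rw [htake, IsLocalization.algebraMap_mem_map_algebraMap_iff M.primeCompl] at hz
  obtain ⟨s, hs, hsz⟩ := hz
  exact CIntNormal.mem_of_mul_mem (fun l : Fin m => G (l.castLE hm.le)) (fun l => a (l.castLE hm.le))
    (fun l => hG _) hs hsz

include hr hG ha hdim in
/-- After dehomogenisation each form is a nonzerodivisor modulo the previous ones. -/
theorem chart_mem_of_mul_mem {m : ℕ} (hm : m < r) (j : Fin (n + 1)) {c : MvPolynomial (Fin n) k}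
    (h : setOne j (G ⟨m, hm⟩) * c ∈ Ideal.span (Set.range fun l : Fin m => setOne j (G (l.castLE hm.le)))) :
    c ∈ Ideal.span (Set.range fun l : Fin m => setOne j (G (l.castLE hm.le))) := by
  classical
  obtain ⟨b, hb⟩ := Ideal.mem_span_range_iff_exists_fun.1 h
  let N := a ⟨m, hm⟩ + c.totalDegree + ∑ l : Fin m, (a (l.castLE hm.le) + (b l).totalDegree)
  obtain ⟨C, hC, hCc⟩ := exists_lift j c (N := N - a ⟨m, hm⟩) (by omega)
  have hl : ∀ l : Fin m, (b l).totalDegree ≤ N - a (l.castLE hm.le) := fun l => by
    have := Finset.single_le_sum (f := fun l : Fin m => a (l.castLE hm.le) + (b l).totalDegree)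
      (fun _ _ => Nat.zero_le _) (Finset.mem_univ l)
    omega
  choose B hB hBb using fun l => exists_lift j (b l) (hl l)
  have hH : (G ⟨m, hm⟩ * C - ∑ l, B l * G (l.castLE hm.le)).IsHomogeneous N := by
    refine IsHomogeneous.sub ?_ (IsHomogeneous.sum _ _ _ fun l _ => ?_)
    · have := (hG ⟨m, hm⟩).mul hC
      rwa [Nat.add_sub_cancel' (by omega)] at this
    · have := (hB l).mul (hG (l.castLE hm.le))
      rwa [Nat.sub_add_cancel (by
        have := Finset.single_le_sum (f := fun l : Fin m => a (l.castLE hm.le) + (b l).totalDegree)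
          (fun _ _ => Nat.zero_le _) (Finset.mem_univ l)
        omega)] at this
  have h0 := eq_zero_of_setOne j hH (by simp [hCc, hBb, hb])
  have hC' := mem_of_mul_mem hr G hG ha hdim hm (z := C) (by
    rw [sub_eq_zero.1 h0]
    exact Ideal.sum_mem _ fun l _ => Ideal.mul_mem_left _ _ (Ideal.subset_span ⟨l, rfl⟩))
  have := Ideal.mem_map_of_mem (setOne (k := k) j).toRingHom hC'
  rw [prefixSpan, Ideal.map_span, ← Set.range_comp] at this
  exact hCc ▸ this

end Groth.Agent.CIProj49

end
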