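import Groth.Agent.CIProj49.Step
import Groth.Agent.ProjTwist.Pn.H0
import Groth.Agent.ProjProper.Basic
import Groth.Agent.ProperFin.Descend
import Groth.Agent.Props.GenTensor
import Groth.Agent.FormalFun.Conn

/-! # Global complete intersections of positive dimension are geometrically connected -/

set_option autoImplicit false
set_option linter.style.haveILetI false

universe u

open CategoryTheory CategoryTheory.Limits AlgebraicGeometry TopologicalSpace Opposite

noncomputable section

namespace Groth.Agent.CIProj49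

open Groth.Agent.Props.GenLocus Groth.Agent.Props.GenTensor

variable {k : Type u} [Field k] {n : ℕ}

theorem surjective_toGlobal_projSpace :
    Function.Surjective (Coh.toGlobal (CohB1.ProjSpace.toSpec n k)) := by
  let X := CohB1.ProjSpace n k
  let O := Coh.structureModule X
  letI : X.Over (Spec (CommRingCat.of k)) := ⟨CohB1.ProjSpace.toSpec n k⟩
  intro x
  have hdim : Module.finrank k (Coh.HH X O 0) = 1 := by
    let E := CohLin.hIso (X := X) (ProjTwist.twistZeroIso (CohB1.polyGrading n k)) 0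
    refine (LinearEquiv.ofBijective (CohLin.overLin k E.toLinearMap) E.bijective).finrank_eq.trans ?_
    refine (ProjTwist.Pn.h0Equiv n k 0).finrank_eq.symm.trans ?_
    exact (LinearEquiv.ofBijective (Algebra.linearMap k (CohB1.polyGrading n k 0))
      (ProjProper.Basic.bijective_algebraMap_zero n k)).finrank_eq.symm.trans
      (Module.finrank_self k)
  let v₀ : Coh.HH X O 0 := (ProperFin.h0Sec O).symm (one' ⊤)
  by_cases hv₀ : v₀ = 0
  · have h2 : (one' ⊤ : Γ(O, ⊤)) = 0 := by
      rw [← (ProperFin.h0Sec O).apply_symm_apply (one' ⊤)]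
      change ProperFin.h0Sec O v₀ = 0
      rw [hv₀, map_zero]
    refine ⟨0, ?_⟩
    have h1 : (1 : Γ(X, ⊤)) = 0 := h2
    rw [map_zero]
    exact ((mul_one x).symm.trans ((congrArg (x * ·) h1).trans (mul_zero x))).symm
  obtain ⟨c, hc⟩ := exists_smul_eq_of_finrank_eq_one hdim hv₀
    ((ProperFin.h0Sec O).symm (show Γ(O, ⊤) from x))
  refine ⟨c, ?_⟩
  have h1 := congrArg (ProperFin.h0Sec O) hc
  rw [AddEquiv.apply_symm_apply] at h1
  refine Eq.trans ?_ ((ProperFin.h0Sec_smul O (Coh.toGlobal (CohB1.ProjSpace.toSpec n k) c) v₀).symm.trans h1)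
  rw [AddEquiv.apply_symm_apply]
  exact (mul_one _).symm

theorem surjective_appTop_of_unitSurj {Y : Scheme.{u}} (ι : Y ⟶ CohB1.ProjSpace n k)
    (h : UnitSurj ι (Twist.twistProjSpace n k 0)) : Function.Surjective ι.appTop := by
  let M := Coh.structureModule (CohB1.ProjSpace n k)
  let z := ProjTwist.twistZeroIso (CohB1.polyGrading n k)
  let η := (Scheme.Modules.pullbackPushforwardAdjunction ι).unit
  let φ : (Scheme.Modules.pullback ι).obj (Twist.twistProjSpace n k 0) ≅ Coh.structureModule Y :=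
    (Scheme.Modules.pullback ι).mapIso z.symm ≪≫ QCoh.pullbackUnitIso ι
  let T : Twist.twistProjSpace n k 0 ⟶ (Scheme.Modules.pushforward ι).obj (Coh.structureModule Y) :=
    η.app _ ≫ (Scheme.Modules.pushforward ι).map φ.hom
  have hT : Function.Surjective (T.app ⊤) := by
    intro y
    obtain ⟨y', hy'⟩ := surjective_app_of_iso ((Scheme.Modules.pushforward ι).mapIso φ) ⊤ y
    obtain ⟨x, hx⟩ := h y'
    refine ⟨x, ?_⟩
    simp only [T, Scheme.Modules.Hom.comp_app]
    exact (congrArg _ hx).trans hy'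
  let T' : M ⟶ (Scheme.Modules.pushforward ι).obj (Coh.structureModule Y) := z.hom ≫ T
  have hT' : Function.Surjective (T'.app ⊤) := by
    intro y
    obtain ⟨x, hx⟩ := hT y
    obtain ⟨x', hx'⟩ := surjective_app_of_iso z ⊤ x
    refine ⟨x', ?_⟩
    simp only [T', Scheme.Modules.Hom.comp_app]
    exact (congrArg _ hx').trans hx
  let u : Γ(Y, ⊤) := T'.app ⊤ (one' ⊤)
  have hlin : ∀ s : Γ(CohB1.ProjSpace n k, ⊤), (show Γ(Y, ⊤) from T'.app ⊤ s) = ι.appTop s * u := by
    intro s
    have h1 := Scheme.Modules.Hom.app_smul T' s (one' ⊤ : Γ(M, ⊤))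
    rw [show (s • (one' ⊤ : Γ(M, ⊤))) = s from mul_one s] at h1
    exact h1
  obtain ⟨s₀, hs₀⟩ := hT' (1 : Γ(Y, ⊤))
  have hu : IsUnit u := IsUnit.of_mul_eq_one_right (ι.appTop s₀) ((hlin s₀).symm.trans hs₀)
  intro z'
  obtain ⟨s, hs⟩ := hT' (z' * u : Γ(Y, ⊤))
  exact ⟨s, hu.mul_left_injective ((hlin s).symm.trans hs)⟩

theorem geometricallyConnected_of_unitSurj {Y : Scheme.{u}} [Nonempty Y]
    (ι : Y ⟶ CohB1.ProjSpace n k) [IsClosedImmersion ι] (h : UnitSurj ι (Twist.twistProjSpace n k 0)) :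
    GeometricallyConnected (ι ≫ CohB1.ProjSpace.toSpec n k) := by
  let f := ι ≫ CohB1.ProjSpace.toSpec n k
  haveI := ProjProper.Basic.isProper_toSpec n k
  haveI : Nonempty (⊤ : Y.Opens) := ⟨⟨Classical.arbitrary Y, trivial⟩⟩
  haveI : Nontrivial Γ(Y, ⊤) := inferInstance
  haveI : Nontrivial (Coh.Γtop Y) := inferInstanceAs (Nontrivial Γ(Y, ⊤))
  have hg : Function.Bijective (Coh.toGlobal f) := by
    refine ⟨(Coh.toGlobal f).injective, fun y => ?_⟩
    obtain ⟨s, hs⟩ := surjective_appTop_of_unitSurj ι h y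
    obtain ⟨c, hc⟩ := surjective_toGlobal_projSpace s
    refine ⟨c, ?_⟩
    rw [← hs, ← hc]
    rfl
  have htop : IsIso f.appTop := by
    rw [ConcreteCategory.isIso_iff_bijective]
    refine (Function.Bijective.of_comp_iff _
      (ConcreteCategory.bijective_of_isIso (Scheme.ΓSpecIso (CommRingCat.of k)).inv)).1 ?_
    exact hg
  refine FormalFun.geometricallyConnected_of_isIso_app f fun U => ?_
  rcases Set.eq_empty_or_nonempty (U : Set (Spec (CommRingCat.of k))) with h0 | ⟨p, hp⟩
  · obtain rfl : U = ⊥ := TopologicalSpace.Opens.ext h0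
    rw [ConcreteCategory.isIso_iff_bijective]
    haveI : Subsingleton Γ(Spec (CommRingCat.of k), ⊥) := inferInstance
    haveI : Subsingleton Γ(Y, f ⁻¹ᵁ ⊥) :=
      (show f ⁻¹ᵁ (⊥ : (Spec (CommRingCat.of k)).Opens) = ⊥ from rfl) ▸ inferInstance
    exact ⟨fun a b _ => Subsingleton.elim a b, fun b => ⟨0, Subsingleton.elim _ _⟩⟩
  · obtain rfl : U = ⊤ := by
      refine TopologicalSpace.Opens.ext (Set.eq_univ_of_forall fun q => ?_)
      rwa [Subsingleton.elim q p]
    exact htop

end Groth.Agent.CIProj49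

end
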