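import Groth.Agent.CIProj49.Conn
import Groth.Agent.ProjTwist.Pn.H0

/-! # The structure sheaf of a hypersurface of degree at most `n` in `P^n` -/

set_option autoImplicit false
set_option linter.style.haveILetI false

universe u

open CategoryTheory CategoryTheory.Limits AlgebraicGeometry TopologicalSpace Opposite

noncomputable section

namespace Groth.Agent.CIProj49

open Groth.Agent.Props.GenLocus
open Groth.Agent.SepTang48 (D isAffineOpen_D)
open Groth.Agent.LefHyp (setOne)

variable {k : Type u} [Field k] {n : ℕ}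

local notation "P" => CohB1.ProjSpace n k

theorem subsingleton_HH_iso {X : Scheme.{u}} {M N : X.Modules} (e : M ≅ N) (p : ℕ)
    (h : Subsingleton (Coh.HH X M p)) : Subsingleton (Coh.HH X N p) :=
  haveI := h
  (CohLin.hIso e p).symm.toEquiv.subsingleton

theorem subsingleton_structure_of_tw {Y : Scheme.{u}} (ι : Y ⟶ P) (p : ℕ)
    (h : Subsingleton (Coh.HH Y (tw ι 0) p)) : Subsingleton (Coh.HH Y (Coh.structureModule Y) p) :=
  subsingleton_HH_iso ((Scheme.Modules.pullback ι).mapIso (ProjTwist.twistZeroIso (CohB1.polyGrading n k)).symm ≪≫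
    QCoh.pullbackUnitIso ι) p h

/-- Vanishing above degree zero on a closed subscheme cut out by an effective Cartier divisor. -/
theorem subsingleton_tw_of_hyp {d : ℕ} (F : LefPen.Form n k d) (hF : F.1 ≠ 0) (c : ℤ) (p : ℕ)
    (h₂ : Subsingleton (Coh.HH P (Twist.twistProjSpace n k c) p))
    (h₁ : Subsingleton (Coh.HH P (Twist.twistProjSpace n k (c - d)) (p + 1))) :
    Subsingleton (Coh.HH (LefPen.hypIdeal F).subscheme (tw (LefPen.hypIdeal F).subschemeι c) p) := by
  let J := LefPen.hypIdeal F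
  obtain ⟨e⟩ := nonempty_hypIso F hF
  let T := Twist.twistProjSpace n k c
  have hT : PicF.IsInvertible T := ProjTwist.isInvertible_twistProjSpace n k c
  let S₀ := ShortComplex.mk (ClSub.idealModι J) (ClSub.toSubscheme J) (kernel.condition _)
  let Fu := (DCoh.tensorBi (X := P)).obj T
  have hS : (S₀.map Fu).ShortExact := CohDev.tens_shortExact (ProjTwist.isFinLocFreeOfRank_one hT)
    (EulerChar.shortExact_ideal J)
  haveI := subsingleton_HH_iso (ProjTwist.tensOne T).symm p h₂
  haveI : Subsingleton (Coh.HH P (S₀.map Fu).X₂ p) := this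
  haveI : Subsingleton (Coh.HH P (S₀.map Fu).X₁ (p + 1)) :=
    subsingleton_HH_iso (Fu.mapIso e ≪≫
      ((ProjTwist.nonempty_twistProjSpace_tensor n k c (-(d : ℤ))).some ≪≫
        eqToIso (congrArg (Twist.twistProjSpace n k) (sub_eq_add_neg c (d : ℤ)).symm))).symm (p + 1) h₁
  haveI := CohLin.subsingleton_X₃ hS (n := p)
  have hc : Subsingleton (Coh.HH P ((Coh.push J.subschemeι).obj (tw J.subschemeι c)) p) :=
    subsingleton_HH_iso (EulerChar.tensQuotIso J.subschemeι T) p this
  haveI := isQCoh_tw J.subschemeι c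
  exact (CMReg.subsingleton_push_iff J.subschemeι (tw J.subschemeι c) p).1 hc

theorem goodCI_hyp {d : ℕ} (F : LefPen.Form n k d) (hF : F.1 ≠ 0) :
    GoodCI (LefPen.hypIdeal F).subschemeι 1 := by
  obtain ⟨e⟩ := nonempty_hypIso F hF
  have h := goodCI_step (𝟙 P) (LefPen.hypIdeal F)
    (e ≪≫ ((Scheme.Modules.pullbackId P).app _).symm) goodCI_id
  exact Category.comp_id (LefPen.hypIdeal F).subschemeι ▸ h

theorem hypIdeal_eq_bot {d : ℕ} (F : LefPen.Form n k d) (hF : F.1 = 0) : LefPen.hypIdeal F = ⊥ := by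
  refine Scheme.IdealSheafData.ext_of_iSup_eq_top (fun j : Fin (n + 1) =>
    (⟨D k n j, isAffineOpen_D k n j⟩ : (CohB1.ProjSpace n k).affineOpens)) (ProjTwist.iSup_stdOpen n k) fun j => ?_
  rw [LefHyp.hypIdeal_ideal_of_le F j _ le_rfl, Scheme.IdealSheafData.ideal_bot]
  refine Ideal.span_singleton_eq_bot.2 ?_
  rw [QCoh.rres_self, ← chartRingEquiv_setOne, hF, map_zero, map_zero]

theorem isIso_subschemeι_zero_form {d : ℕ} (F : LefPen.Form n k d) (hF : F.1 = 0) :
    IsIso (LefPen.hypIdeal F).subschemeι :=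
  IsClosedImmersion.isIso_iff_ker_eq_bot.2
    ((Scheme.IdealSheafData.ker_subschemeι _).trans (hypIdeal_eq_bot F hF))

theorem subsingleton_tw_zero_form {d : ℕ} (F : LefPen.Form n k d) (hF : F.1 = 0) (c : ℤ) (p : ℕ)
    (hp : 1 ≤ p) (hc : -((n : ℤ) + 1) < c) :
    Subsingleton (Coh.HH (LefPen.hypIdeal F).subscheme (tw (LefPen.hypIdeal F).subschemeι c) p) := by
  haveI := isIso_subschemeι_zero_form F hF
  let ι := (LefPen.hypIdeal F).subschemeι
  haveI := isIso_unit_of_isIso ι (Twist.twistProjSpace n k c)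
  obtain ⟨q, rfl⟩ := Nat.exists_eq_succ_of_ne_zero (show p ≠ 0 by omega)
  have h : Subsingleton (Coh.HH P ((Coh.push ι).obj (tw ι c)) (q + 1)) :=
    subsingleton_HH_iso (asIso ((Scheme.Modules.pullbackPushforwardAdjunction ι).unit.app
      (Twist.twistProjSpace n k c))) (q + 1) (ProjTwist.Pn.subsingleton_twist c q (Or.inr hc))
  haveI := isQCoh_tw ι c
  exact (CMReg.subsingleton_push_iff ι (tw ι c) (q + 1)).1 h

/-- A hypersurface in `P^n`, `n ≥ 1`, is nonempty. -/
theorem nonempty_hyp (hn : 1 ≤ n) {d : ℕ} (F : LefPen.Form n k d) (hd : 1 ≤ d) :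
    Nonempty (LefPen.hypIdeal F).subscheme := by
  have hFh := (MvPolynomial.mem_homogeneousSubmodule _ _).1 F.2
  have hex : ∃ j, ¬ IsUnit (setOne j F.1) := by
    by_contra hall
    push Not at hall
    obtain ⟨c, hc, h0⟩ := MvPolynomial.isUnit_iff_eq_C_of_isReduced.1 (hall 0)
    have hz := eq_zero_of_setOne (0 : Fin (n + 1))
      (hFh.sub ((MvPolynomial.isHomogeneous_X_pow (R := k) (0 : Fin (n + 1)) d).C_mul c))
      (by rw [map_sub, map_mul, map_pow, setOne_X_self, one_pow, mul_one, h0, MvPolynomial.algHom_C]; exact sub_self _)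
    let i₀ : Fin n := ⟨0, hn⟩
    have hu := hall i₀.succ
    rw [sub_eq_zero.1 hz, map_mul, map_pow] at hu
    obtain ⟨l, hl⟩ := Fin.exists_succAbove_eq (Fin.succ_ne_zero i₀).symm
    have h2 : IsUnit (setOne (k := k) i₀.succ (MvPolynomial.X (0 : Fin (n + 1)))) :=
      (isUnit_pow_iff (by omega)).1 (IsUnit.mul_iff.1 hu).2
    rw [← hl, show setOne (k := k) i₀.succ (MvPolynomial.X (i₀.succ.succAbove l)) = MvPolynomial.X l by
      simp [setOne]] at h2
    obtain ⟨c', -, hc'⟩ := MvPolynomial.isUnit_iff_eq_C_of_isReduced.1 h2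
    have := congrArg MvPolynomial.totalDegree hc'
    simp at this
  obtain ⟨j, hj⟩ := hex
  let I := LefPen.hypIdeal F
  let U : (CohB1.ProjSpace n k).affineOpens := ⟨D k n j, isAffineOpen_D k n j⟩
  have hne : I.ideal U ≠ ⊤ := by
    rw [LefHyp.hypIdeal_ideal_of_le F j U le_rfl]
    intro htop
    refine hj ((isUnit_map_iff (chartRingEquiv j) _).1 ?_)
    rw [chartRingEquiv_setOne]
    exact (QCoh.rres_self _ (LefPen.dehom F j)) ▸ Ideal.span_singleton_eq_top.1 htop
  haveI := Ideal.Quotient.nontrivial_iff.2 hne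
  haveI : Nontrivial Γ(I.subscheme, I.subschemeι ⁻¹ᵁ U.1) :=
    (I.subschemeObjIso U).commRingCatIsoToRingEquiv.toEquiv.nontrivial
  by_contra h
  haveI := not_nonempty_iff.1 h
  have hb : I.subschemeι ⁻¹ᵁ U.1 = ⊥ := TopologicalSpace.Opens.ext (Set.eq_empty_of_isEmpty _)
  exact not_subsingleton Γ(I.subscheme, I.subschemeι ⁻¹ᵁ U.1) (hb ▸ inferInstance)

/-- `H⁰(X, O) = k`. -/
theorem bijective_toGlobal_hyp {d : ℕ} (F : LefPen.Form n k d) (hn : 2 ≤ n) (hd : 1 ≤ d) :
    Function.Bijective (Coh.toGlobal ((LefPen.hypIdeal F).subschemeι ≫ CohB1.ProjSpace.toSpec n k)) := by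
  let Y := (LefPen.hypIdeal F).subscheme
  haveI : Nonempty Y := nonempty_hyp (by omega) F hd
  haveI : Nonempty (⊤ : Y.Opens) := ⟨⟨Classical.arbitrary Y, trivial⟩⟩
  haveI : Nontrivial Γ(Y, ⊤) := inferInstance
  haveI : Nontrivial (Coh.Γtop (LefPen.hypIdeal F).subscheme) := ‹Nontrivial Γ(Y, ⊤)›
  have hs : UnitSurj (LefPen.hypIdeal F).subschemeι (Twist.twistProjSpace n k 0) := by
    by_cases hF : F.1 = 0
    · haveI := isIso_subschemeι_zero_form F hF
      haveI := isIso_unit_of_isIso (LefPen.hypIdeal F).subschemeι (Twist.twistProjSpace n k 0)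
      exact surjective_app_of_iso (asIso ((Scheme.Modules.pullbackPushforwardAdjunction
        (LefPen.hypIdeal F).subschemeι).unit.app _)) ⊤
    · exact (goodCI_hyp F hF).2 (by omega) 0
  refine ⟨RingHom.injective (Coh.toGlobal ((LefPen.hypIdeal F).subschemeι ≫ CohB1.ProjSpace.toSpec n k)), fun y => ?_⟩
  obtain ⟨s, hs'⟩ := surjective_appTop_of_unitSurj _ hs y
  obtain ⟨c, hc⟩ := surjective_toGlobal_projSpace s
  refine ⟨c, ?_⟩
  rw [← hs', ← hc]
  rfl

theorem bijective_appTop_of_toGlobal {Y : Scheme.{u}} (f : Y ⟶ Spec (CommRingCat.of k))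
    (h : Function.Bijective (Coh.toGlobal f)) : Function.Bijective f.appTop.hom :=
  (Function.Bijective.of_comp_iff _
    (ConcreteCategory.bijective_of_isIso (Scheme.ΓSpecIso (CommRingCat.of k)).inv)).1 h

end Groth.Agent.CIProj49

end
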